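import Mathlib.AlgebraicGeometry.Morphisms.Immersion
import Mathlib.AlgebraicGeometry.Morphisms.Proper

/-! Factorisation as a proper morphism followed by an immersion (EGA IV 15.7.11). -/

set_option autoImplicit false
universe u

open CategoryTheory CategoryTheory.Limits AlgebraicGeometry TopologicalSpace

namespace Groth.Agent.Prop62

variable {X Y : Scheme.{u}}

theorem isPullback_of_comp_mono {W : Scheme.{u}} (g : X ⟶ W) (h : W ⟶ Y) [Mono h] :
    IsPullback (𝟙 X) g (g ≫ h) h := by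
  simpa using (IsPullback.of_horiz_isIso (fst := 𝟙 X) (snd := g) (f := g) (g := 𝟙 W) ⟨by simp⟩).paste_vert
    (IsKernelPair.id_of_mono h)

theorem isProper_restrict_of_factor {Z : Scheme.{u}} (g : X ⟶ Z) (h : Z ⟶ Y) [IsProper g] [IsImmersion h] :
    IsProper ((g ≫ h) ∣_ h.coborderRange) := by
  let U := h.coborderRange
  let g' := g ≫ h.liftCoborder
  have e : g ≫ h = g' ≫ U.ι := by simp [g', U]
  rw [e]
  have sq := isPullback_of_comp_mono g' U.ι
  have sq' := (isPullback_morphismRestrict (g' ≫ U.ι) U).flip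
  have he : (g' ≫ U.ι) ∣_ U = (sq'.isoIsPullback _ _ sq).hom ≫ g' :=
    (IsPullback.isoIsPullback_hom_snd _ _ sq' sq).symm
  rw [he]
  infer_instance

theorem exists_factor_iff (f : X ⟶ Y) :
    (∃ (Z : Scheme.{u}) (g : X ⟶ Z) (h : Z ⟶ Y), IsProper g ∧ IsImmersion h ∧ g ≫ h = f) ↔
      ∀ x : X, ∃ U : Y.Opens, f x ∈ U ∧ IsProper (f ∣_ U) := by
  constructor
  · rintro ⟨Z, g, h, hg, hh, rfl⟩ x
    refine ⟨h.coborderRange, ?_, isProper_restrict_of_factor g h⟩
    exact subset_coborder ⟨g x, (Scheme.Hom.comp_apply _ _ _).symm⟩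
  · intro H
    choose U hU hP using H
    let W : Y.Opens := ⨆ x, U x
    let g : X ⟶ W := IsOpenImmersion.lift W.ι f (by
      rintro _ ⟨x, rfl⟩
      rw [Scheme.Opens.range_ι]
      exact Opens.mem_iSup.2 ⟨x, hU x⟩)
    have hgW : g ≫ W.ι = f := IsOpenImmersion.lift_fac _ _ _
    refine ⟨W, g, W.ι, ?_, inferInstance, hgW⟩
    refine IsZariskiLocalAtTarget.of_iSup_eq_top (P := @IsProper) (fun x => W.ι ⁻¹ᵁ U x) ?_ fun x => ?_
    · refine top_le_iff.1 fun w _ => ?_
      obtain ⟨x, hx⟩ := Opens.mem_iSup.1 (show W.ι w ∈ W from w.2)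
      exact Opens.mem_iSup.2 ⟨x, hx⟩
    · let V := W.ι ⁻¹ᵁ U x
      let m : V.toScheme ⟶ (U x).toScheme := IsOpenImmersion.lift (U x).ι (V.ι ≫ W.ι) (by
        rintro _ ⟨v, rfl⟩
        rw [Scheme.Opens.range_ι, Scheme.Hom.comp_apply]
        exact v.2)
      have hm : m ≫ (U x).ι = V.ι ≫ W.ι := IsOpenImmersion.lift_fac _ _ _
      have sqg : IsPullback (𝟙 X) g f W.ι := hgW ▸ isPullback_of_comp_mono g W.ι
      have souter : IsPullback ((g ⁻¹ᵁ V).ι ≫ 𝟙 X) (g ∣_ V) f (m ≫ (U x).ι) := by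
        rw [hm]
        exact (isPullback_morphismRestrict g V).flip.paste_horiz sqg
      have sqU := (isPullback_morphismRestrict f (U x)).flip
      let l : (g ⁻¹ᵁ V).toScheme ⟶ (f ⁻¹ᵁ U x).toScheme :=
        sqU.lift ((g ⁻¹ᵁ V).ι ≫ 𝟙 X) (g ∣_ V ≫ m) (by rw [souter.w, Category.assoc])
      have sql : IsPullback l (g ∣_ V) (f ∣_ U x) m :=
        IsPullback.of_right (by rw [sqU.lift_fst]; exact souter) (sqU.lift_snd _ _ _) sqU
      exact MorphismProperty.of_isPullback (P := @IsProper) sql (hP x)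

end Groth.Agent.Prop62
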