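import Groth.Agent.E4O.ProperAtDvr
import Mathlib.AlgebraicGeometry.FunctionField
import Mathlib.AlgebraicGeometry.Stalk
import Mathlib.RingTheory.DiscreteValuationRing.Basic
import Mathlib.RingTheory.Valuation.ValuationSubring

/-! Properness near a point of an integral scheme by discrete valuation rings of the function field
(EGA IV 15.7.6). -/

set_option autoImplicit false
set_option linter.style.haveILetI false
universe u

open CategoryTheory CategoryTheory.Limits AlgebraicGeometry IsLocalRing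

namespace Groth.Agent.Prop62

/-- The trace of a discrete valuation ring on a subfield is discrete or trivial. -/
theorem isDVR_comap {K L : Type u} [Field K] [Field L] (ι : K →+* L) (A : ValuationSubring L)
    [IsDiscreteValuationRing A] (h : A.comap ι ≠ ⊤) : IsDiscreteValuationRing (A.comap ι) := by
  classical
  let B := A.comap ι
  let j : B →+* A := (ι.comp B.subtype).codRestrict A.toSubring fun b => b.2
  have hj : Function.Injective j := fun a b e => Subtype.ext (ι.injective (congrArg Subtype.val e :))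
  have hpid : IsPrincipalIdealRing B := by
    refine ⟨fun I => ?_⟩
    rcases eq_or_ne I ⊥ with rfl | hI
    · exact ⟨0, by simp⟩
    obtain ⟨a₀, ha₀, ha₀0⟩ := Submodule.exists_mem_ne_zero_of_ne_bot hI
    obtain ⟨_, ⟨a, ⟨ha, ha0⟩, rfl⟩, hmin⟩ :=
      wellFounded_lt.has_min ((fun b : B => IsDiscreteValuationRing.addVal A (j b)) ''
        {b | b ∈ I ∧ b ≠ 0}) ⟨_, a₀, ⟨ha₀, ha₀0⟩, rfl⟩
    refine ⟨a, le_antisymm (fun b hb => ?_) ((Submodule.span_singleton_le_iff_mem _ _).2 ha)⟩
    rcases eq_or_ne b 0 with rfl | hb0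
    · exact zero_mem _
    have hle : IsDiscreteValuationRing.addVal A (j a) ≤ IsDiscreteValuationRing.addVal A (j b) :=
      not_lt.1 (hmin _ ⟨b, ⟨hb, hb0⟩, rfl⟩)
    obtain ⟨c, hc⟩ := IsDiscreteValuationRing.addVal_le_iff_dvd.1 hle
    have haK : (a : K) ≠ 0 := fun e => ha0 (Subtype.ext e)
    have hc' : ι ((b : K) / (a : K)) = (c : L) := by
      rw [map_div₀, div_eq_iff ((map_ne_zero ι).2 haK), mul_comm]
      exact congrArg Subtype.val hc
    refine Submodule.mem_span_singleton.2 ⟨⟨(b : K) / (a : K), ?_⟩, Subtype.ext ?_⟩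
    · show ι ((b : K) / (a : K)) ∈ A
      rw [hc']
      exact c.2
    · exact div_mul_cancel₀ _ haK
  refine { toIsPrincipalIdealRing := hpid, not_a_field' := fun hm => h ?_ }
  refine top_le_iff.1 fun x _ => ?_
  rcases B.mem_or_inv_mem x with hx | hx
  · exact hx
  rcases eq_or_ne x 0 with rfl | hx0
  · exact B.zero_mem
  have hu : IsUnit (⟨x⁻¹, hx⟩ : B) := by
    by_contra hu
    have : (⟨x⁻¹, hx⟩ : B) ∈ maximalIdeal B := hu
    rw [hm] at this
    exact inv_ne_zero hx0 (congrArg Subtype.val (Ideal.mem_bot.1 this))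
  obtain ⟨v, hv⟩ := hu.exists_right_inv
  have hv' : x⁻¹ * (v : K) = 1 := congrArg Subtype.val hv
  have : (v : K) = x := by
    field_simp at hv'
    exact hv'
  exact this ▸ v.2

section Dom

variable {K : Type u} [Field K] {R : Type u} [CommRing R] [IsLocalRing R] (A : ValuationSubring K)
  (φ : R →+* K)

theorem isLocalHom_codRestrict (h1 : ∀ r, A.valuation (φ r) ≤ 1)
    (h2 : ∀ r ∈ maximalIdeal R, A.valuation (φ r) < 1) :
    IsLocalHom (φ.codRestrict A.toSubring fun r => (A.valuation_le_one_iff _).1 (h1 r)) := by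
  refine ⟨fun r hr => ?_⟩
  by_contra hu
  exact ((A.valuation_lt_one_iff _).2 (h2 r hu)) hr

theorem dominates_of_isLocalHom (θ : R →+* A) [IsLocalHom θ] (hθ : ∀ r, (θ r : K) = φ r) :
    (∀ r, A.valuation (φ r) ≤ 1) ∧ ∀ r ∈ maximalIdeal R, A.valuation (φ r) < 1 :=
  ⟨fun r => hθ r ▸ (A.valuation_le_one_iff _).2 (θ r).2, fun r hr =>
    hθ r ▸ (A.valuation_lt_one_iff (θ r)).1 (map_nonunit θ r hr)⟩

end Dom

variable {X Y : Scheme.{u}} [IsIntegral X] [IsLocallyNoetherian Y]

theorem proper_nhd_iff_dvr (f : X ⟶ Y) [IsSeparated f] [LocallyOfFiniteType f] [QuasiCompact f] (y : Y)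
    (hξ : f.base (genericPoint X) ⤳ y) :
    (∃ U : Y.Opens, y ∈ U ∧ IsProper (f ∣_ U)) ↔
      ∀ A : ValuationSubring X.functionField, IsDiscreteValuationRing A →
        (∀ r : Y.presheaf.stalk y, A.valuation ((Y.presheaf.stalkSpecializes hξ ≫ f.stalkMap (genericPoint X)) r) ≤ 1) →
        (∀ r ∈ maximalIdeal (Y.presheaf.stalk y),
            A.valuation ((Y.presheaf.stalkSpecializes hξ ≫ f.stalkMap (genericPoint X)) r) < 1) →
        ∃ x : X, f.base x = y ∧
          (∀ r : X.presheaf.stalk x, A.valuation (X.presheaf.stalkSpecializes (genericPoint_specializes x) r) ≤ 1) ∧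
          (∀ r ∈ maximalIdeal (X.presheaf.stalk x),
            A.valuation (X.presheaf.stalkSpecializes (genericPoint_specializes x) r) < 1) := by
  let K : CommRingCat.{u} := X.functionField
  let φ : Y.presheaf.stalk y ⟶ K := Y.presheaf.stalkSpecializes hξ ≫ f.stalkMap (genericPoint X)
  let ξK : Spec K ⟶ X := X.fromSpecStalk (genericPoint X)
  have hφ : Spec.map φ ≫ Y.fromSpecStalk y = ξK ≫ f := by
    rw [Spec.map_comp, Category.assoc, Scheme.SpecMap_stalkSpecializes_fromSpecStalk,
      Scheme.SpecMap_stalkMap_fromSpecStalk]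
  constructor
  · rintro ⟨U, hy, hU⟩ A hA h1 h2
    let τ : Y.presheaf.stalk y ⟶ CommRingCat.of A :=
      CommRingCat.ofHom (φ.hom.codRestrict A.toSubring fun r => (A.valuation_le_one_iff _).1 (h1 r))
    have hτl : IsLocalHom τ.hom := isLocalHom_codRestrict A φ.hom h1 h2
    let a : Spec K ⟶ Spec (CommRingCat.of A) := Spec.map (CommRingCat.ofHom (algebraMap A X.functionField))
    let g := Spec.map τ ≫ Y.fromSpecStalk y
    have hag : a ≫ g = ξK ≫ f := by
      rw [← hφ]
      show Spec.map _ ≫ Spec.map _ ≫ _ = _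
      rw [← Spec.map_comp_assoc]
      rfl
    have hgc : g (closedPoint A) = y := by
      rw [Scheme.Hom.comp_apply]
      exact (congrArg _ (show Spec.map τ (closedPoint A) = closedPoint (Y.presheaf.stalk y) from
        IsLocalRing.comap_closedPoint τ.hom)).trans Scheme.fromSpecStalk_closedPoint
    have hgU : Set.range g ⊆ Set.range U.ι := by
      rw [Scheme.Opens.range_ι]
      exact E4O.ProperAt.range_subset_opens g (hgc.symm ▸ hy)
    let gU := IsOpenImmersion.lift U.ι g hgU
    have hgU' : gU ≫ U.ι = g := IsOpenImmersion.lift_fac _ _ _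
    have sq := (isPullback_morphismRestrict f U).flip
    let kU : Spec K ⟶ (f ⁻¹ᵁ U).toScheme :=
      sq.lift ξK (a ≫ gU) (by rw [Category.assoc, hgU', hag])
    have hex : ValuativeCriterion.Existence (f ∣_ U) := by
      have h : UniversallyClosed (f ∣_ U) := inferInstance
      rw [UniversallyClosed.eq_valuativeCriterion] at h
      exact h.1
    obtain ⟨⟨⟨l, hl1, hl2⟩⟩⟩ := hex
      { R := A, K := X.functionField, i₁ := kU, i₂ := gU, commSq := ⟨sq.lift_snd _ _ _⟩ }
    let l₀ : Spec (CommRingCat.of A) ⟶ (f ⁻¹ᵁ U).toScheme := l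
    have hl1₀ : a ≫ l₀ = kU := hl1
    have hl2₀ : l₀ ≫ (f ∣_ U) = gU := hl2
    let l' : Spec (CommRingCat.of A) ⟶ X := l₀ ≫ (f ⁻¹ᵁ U).ι
    have hl1' : a ≫ l' = ξK := (reassoc_of% hl1₀) _ |>.trans (sq.lift_fst _ _ _)
    have hl2' : l' ≫ f = g :=
      (Category.assoc _ _ _).trans ((congrArg (l₀ ≫ ·) (morphismRestrict_ι f U).symm).trans
        ((Category.assoc _ _ _).symm.trans ((congrArg (· ≫ U.ι) hl2₀).trans hgU')))
    let x : X := l' (closedPoint A)
    refine ⟨x, ?_, ?_⟩
    · show f x = y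
      rw [← Scheme.Hom.comp_apply, hl2', hgc]
    let θ : X.presheaf.stalk x ⟶ CommRingCat.of A := Scheme.stalkClosedPointTo l'
    have hθl : IsLocalHom θ.hom := inferInstanceAs (IsLocalHom (Scheme.stalkClosedPointTo l').hom)
    have hθ : θ ≫ CommRingCat.ofHom (algebraMap A X.functionField) =
        X.presheaf.stalkSpecializes (genericPoint_specializes x) := by
      apply Spec.map_injective
      rw [← cancel_mono (X.fromSpecStalk x), Spec.map_comp, Category.assoc,
        Scheme.Spec_stalkClosedPointTo_fromSpecStalk, Scheme.SpecMap_stalkSpecializes_fromSpecStalk]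
      exact hl1'
    exact dominates_of_isLocalHom A _ θ.hom fun r => congrArg (fun m : X.presheaf.stalk x ⟶ K => m r) hθ
  · intro H
    refine E4O.ProperAt.exists_nhd f y fun η hη L _ A hA g k hg hk hkg => ?_
    obtain rfl : genericPoint X = η := hη _ (genericPoint_specializes η)
    subst hg
    let τ : Y.presheaf.stalk (g (closedPoint A)) ⟶ CommRingCat.of A := Scheme.stalkClosedPointTo g
    have hτl : IsLocalHom τ.hom := inferInstanceAs (IsLocalHom (Scheme.stalkClosedPointTo g).hom)
    have hτ : Spec.map τ ≫ Y.fromSpecStalk _ = g := Scheme.Spec_stalkClosedPointTo_fromSpecStalk g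
    have hsp : k (closedPoint L) ⤳ genericPoint X := hk ▸ specializes_rfl
    have hsp' : genericPoint X ⤳ k (closedPoint L) := genericPoint_specializes _
    let ι : K ⟶ CommRingCat.of L := X.presheaf.stalkSpecializes hsp ≫ Scheme.stalkClosedPointTo k
    have hι : Spec.map ι ≫ ξK = k := by
      rw [Spec.map_comp, Category.assoc, Scheme.SpecMap_stalkSpecializes_fromSpecStalk,
        Scheme.Spec_stalkClosedPointTo_fromSpecStalk]
    let aL := CommRingCat.ofHom (algebraMap A L)
    have hφι : φ ≫ ι = τ ≫ aL := by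
      apply Spec.map_injective
      rw [← cancel_mono (Y.fromSpecStalk (g (closedPoint A))), Spec.map_comp φ ι, Spec.map_comp τ aL, Category.assoc,
        Category.assoc, hφ, reassoc_of% hι, hτ, hkg]
    have hφι' : ∀ r, ι (φ r) = (τ r : L) := fun r =>
      congrArg (fun m : Y.presheaf.stalk (g (closedPoint A)) ⟶ CommRingCat.of L => m r) hφι
    let A₀ : ValuationSubring X.functionField := A.comap ι.hom
    by_cases htop : A₀ = ⊤
    · let j : K ⟶ CommRingCat.of A := CommRingCat.ofHom (ι.hom.codRestrict A.toSubring fun z =>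
        (show z ∈ A₀ from htop ▸ ValuationSubring.mem_top z))
      refine ⟨Spec.map j ≫ ξK, ?_, ?_⟩
      · have e : φ ≫ j = τ := CommRingCat.hom_ext (RingHom.ext fun r => Subtype.ext (hφι' r))
        rw [Category.assoc, ← hφ, ← Spec.map_comp_assoc, e, hτ]
      · rw [← Spec.map_comp_assoc, show j ≫ aL = ι from rfl, hι]
    have hA₀ : IsDiscreteValuationRing A₀ := isDVR_comap ι.hom A htop
    let τ₀ : Y.presheaf.stalk (g (closedPoint A)) →+* A₀ := φ.hom.codRestrict A₀.toSubring fun r => by
      show ι (φ r) ∈ A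
      rw [hφι']
      exact (τ r).2
    let j₀ : A₀ →+* A := (ι.hom.comp A₀.subtype).codRestrict A.toSubring fun b => b.2
    have hτ₀ : IsLocalHom τ₀ := ⟨fun r hr => by
      have h1 : IsUnit (j₀ (τ₀ r)) := hr.map j₀
      rw [show j₀ (τ₀ r) = τ r from Subtype.ext (hφι' r)] at h1
      exact isUnit_of_map_unit τ.hom r h1⟩
    obtain ⟨h1, h2⟩ := dominates_of_isLocalHom A₀ φ.hom τ₀ fun _ => rfl
    obtain ⟨x, hx, hx1, hx2⟩ := H A₀ hA₀ h1 h2
    let ψ : X.presheaf.stalk x ⟶ K := X.presheaf.stalkSpecializes (genericPoint_specializes x)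
    let θ : X.presheaf.stalk x ⟶ CommRingCat.of A := CommRingCat.ofHom
      (j₀.comp (ψ.hom.codRestrict A₀.toSubring fun r => (A₀.valuation_le_one_iff _).1 (hx1 r)))
    have hθι : θ ≫ aL = ψ ≫ ι := rfl
    refine ⟨Spec.map θ ≫ X.fromSpecStalk x, ?_, ?_⟩
    · have hsy : g (closedPoint A) ⤳ f x := (show f x = g (closedPoint A) from hx) ▸ specializes_rfl
      have hinj : Mono aL := ConcreteCategory.mono_of_injective _ Subtype.val_injective
      have e : f.stalkMap x ≫ θ = Y.presheaf.stalkSpecializes hsy ≫ τ := by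
        rw [← cancel_mono aL, Category.assoc, Category.assoc, hθι, ← hφι]
        show f.stalkMap x ≫ X.presheaf.stalkSpecializes _ ≫ ι =
          Y.presheaf.stalkSpecializes hsy ≫ (Y.presheaf.stalkSpecializes hξ ≫ f.stalkMap (genericPoint X)) ≫ ι
        simp only [← Category.assoc]
        rw [← Scheme.Hom.stalkSpecializes_stalkMap, TopCat.Presheaf.stalkSpecializes_comp]
      rw [Category.assoc, ← Scheme.SpecMap_stalkMap_fromSpecStalk, ← Spec.map_comp_assoc, e,
        Spec.map_comp_assoc, Scheme.SpecMap_stalkSpecializes_fromSpecStalk, hτ]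
    · rw [← Spec.map_comp_assoc, show θ ≫ CommRingCat.ofHom (algebraMap A L) = ψ ≫ ι from hθι,
        Spec.map_comp_assoc, Scheme.SpecMap_stalkSpecializes_fromSpecStalk]
      exact hι

end Groth.Agent.Prop62
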