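import Groth.Agent.Prop62.SubmersiveProper
import Groth.Agent.Stage62.SubringSpec
import Groth.Agent.LimTop61.BaseChange
import Groth.Agent.Approx60.ProperDesc
import Groth.Agent.Approx60.ImmStage
import Groth.Agent.Rig93.FlatDesc
import Groth.Agent.LimDesc62.ClosedImm
import Groth.Agent.LimDesc62.Points
import Groth.Agent.LimTop61.Diag
import Groth.Agent.ConsProp93.Approx
import Groth.Agent.NearGen2.Approx
import Groth.Agent.NearGen2.CompLocus
import Groth.Agent.S1335
import Groth.Agent.Unr55.DescProps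

/-! The locus of proper fibres of a morphism with a multisection and connected fibres (EGA IV 15.7.11). -/

set_option autoImplicit false
set_option backward.isDefEq.respectTransparency.types false
set_option linter.style.haveILetI false
universe u

open CategoryTheory CategoryTheory.Limits AlgebraicGeometry TopologicalSpace Topology Opposite

namespace Groth.Agent.Prop62

variable {X Y Y' : Scheme.{u}}

theorem univQuot_of_section (f : X ⟶ Y) (g : Y' ⟶ Y) (σ : Y' ⟶ X) (hσ : σ ≫ f = g) [Surjective g]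
    [LocallyOfFinitePresentation g] (hg : IsProper g ∨ Flat g) :
    MorphismProperty.universally (topologically fun φ => Topology.IsQuotientMap φ) f := by
  intro X₁ Y₁ i₁ i₂ f' hsq
  let g' : pullback g i₂ ⟶ Y₁ := pullback.snd g i₂
  let σ' : pullback g i₂ ⟶ X₁ := hsq.lift (pullback.snd g i₂) (pullback.fst g i₂ ≫ σ)
    (by rw [Category.assoc, hσ, pullback.condition])
  have e : σ' ≫ f' = g' := hsq.lift_fst _ _ _
  haveI : Surjective g' := inferInstance
  have hq : Topology.IsQuotientMap g' := by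
    rcases hg with h | h
    · exact g'.isClosedMap.isQuotientMap g'.continuous g'.surjective
    · exact (Scheme.Hom.isOpenMap g').isQuotientMap g'.continuous g'.surjective
  refine IsQuotientMap.of_comp (f := σ') σ'.continuous f'.continuous ?_
  rw [← TopCat.coe_comp, ← Scheme.Hom.comp_base, e]
  exact hq

/-- The fibre over a point of a base change, as a base change of the fibre. -/
theorem isPullback_fibre {X' : Scheme.{u}} {f : X ⟶ Y} {f' : X' ⟶ Y'} {p : X' ⟶ X} {h : Y' ⟶ Y}
    (hsq : IsPullback p f' f h) (y' : Y') :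
    ∃ q : f'.fiber y' ⟶ f.fiber (h y'),
      IsPullback q (f'.fiberToSpecResidueField y') (f.fiberToSpecResidueField (h y')) (Spec.map (h.residueFieldMap y')) := by
  have w : Spec.map (h.residueFieldMap y') ≫ Y.fromSpecResidueField (h y') = Y'.fromSpecResidueField y' ≫ h :=
    Scheme.Hom.SpecMap_residueFieldMap_fromSpecResidueField _ _
  have big : IsPullback (pullback.fst f' (Y'.fromSpecResidueField y') ≫ p) (pullback.snd f' (Y'.fromSpecResidueField y'))
      f (Spec.map (h.residueFieldMap y') ≫ Y.fromSpecResidueField (h y')) :=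
    w ▸ (IsPullback.of_hasPullback f' (Y'.fromSpecResidueField y')).paste_horiz hsq
  refine ⟨pullback.lift (pullback.fst f' (Y'.fromSpecResidueField y') ≫ p)
    (pullback.snd f' (Y'.fromSpecResidueField y') ≫ Spec.map (h.residueFieldMap y')) (big.w.trans (Category.assoc _ _ _).symm), ?_⟩
  refine IsPullback.of_right (h₁₂ := pullback.fst f (Y.fromSpecResidueField (h y'))) (v₁₃ := f) ?_
    (pullback.lift_snd _ _ _) (IsPullback.of_hasPullback f (Y.fromSpecResidueField (h y')))
  rw [pullback.lift_fst]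
  exact big

theorem proper_fibre_baseChange_iff {X' : Scheme.{u}} {f : X ⟶ Y} {f' : X' ⟶ Y'} {p : X' ⟶ X} {h : Y' ⟶ Y}
    (hsq : IsPullback p f' f h) (y' : Y') :
    IsProper (f'.fiberToSpecResidueField y') ↔ IsProper (f.fiberToSpecResidueField (h y')) := by
  obtain ⟨q, hq⟩ := isPullback_fibre hsq y'
  refine ⟨fun hp => ?_, fun hp => MorphismProperty.of_isPullback hq hp⟩
  haveI : Surjective (Spec.map (h.residueFieldMap y')) :=
    ⟨fun x => ⟨IsLocalRing.closedPoint _, (Subsingleton.elim _ _)⟩⟩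
  haveI : Flat (Spec.map (h.residueFieldMap y')) := by
    rw [HasRingHomProperty.Spec_iff (P := @Flat)]
    letI := (h.residueFieldMap y').hom.toAlgebra
    exact (inferInstance : Module.Flat (Y.residueField (h y')) (Y'.residueField y'))
  have hD : MorphismProperty.DescendsAlong @IsProper (@Surjective ⊓ @Flat ⊓ @QuasiCompact : MorphismProperty Scheme.{u}) :=
    Unr55.isProper
  exact MorphismProperty.of_isPullback_of_descendsAlong (P := @IsProper) hq.flip
    (show (@Surjective ⊓ @Flat ⊓ @QuasiCompact : MorphismProperty Scheme.{u}) (Spec.map (h.residueFieldMap y')) from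
      ⟨⟨inferInstance, inferInstance⟩, inferInstance⟩) hp

/-- Fibres over an open over which a morphism is proper are proper. -/
theorem proper_fibre_of_restrict (f : X ⟶ Y) {U : Y.Opens} (hU : IsProper (f ∣_ U)) {y : Y} (hy : y ∈ U) :
    IsProper (f.fiberToSpecResidueField y) := by
  have h1 := (proper_fibre_baseChange_iff (isPullback_morphismRestrict f U).flip ⟨y, hy⟩).1
    (MorphismProperty.pullback_snd _ _ hU)
  exact h1

/-- The Noetherian case. -/
theorem exists_nhd_noetherian [IsLocallyNoetherian Y] (f : X ⟶ Y) [IsSeparated f] [LocallyOfFiniteType f]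
    [QuasiCompact f] (g : Y' ⟶ Y) (σ : Y' ⟶ X) (hσ : σ ≫ f = g) [Surjective g] [LocallyOfFinitePresentation g]
    (hg : IsProper g ∨ Flat g) (hconn : ∀ y : Y, MoreMor.nGeomConnComp f y ≤ 1) (y : Y)
    (hy : IsProper (f.fiberToSpecResidueField y)) : ∃ U : Y.Opens, y ∈ U ∧ IsProper (f ∣_ U) :=
  exists_nhd_of_submersive f (univQuot_of_section f g σ hσ hg) hconn y hy

/-- Later stages inherit stable properties. -/
theorem snd_comp_stage {S S₁ S₂ : Scheme.{u}} (P : MorphismProperty Scheme.{u}) [P.IsStableUnderBaseChange]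
    (a : X ⟶ S) (v : S₁ ⟶ S) (w : S₂ ⟶ S₁) (h : P (pullback.snd a v)) : P (pullback.snd a (w ≫ v)) := by
  let q : pullback a (w ≫ v) ⟶ pullback a v := pullback.lift (pullback.fst a (w ≫ v)) (pullback.snd a (w ≫ v) ≫ w)
    (by rw [Category.assoc]; exact pullback.condition)
  have sq : IsPullback q (pullback.snd a (w ≫ v)) (pullback.snd a v) w := by
    refine IsPullback.of_right (h₁₂ := pullback.fst a v) (v₁₃ := a) ?_ (pullback.lift_snd _ _ _) (IsPullback.of_hasPullback a v)
    rw [pullback.lift_fst]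
    exact IsPullback.of_hasPullback a (w ≫ v)
  exact P.of_isPullback sq h

theorem isLocallyConstructible_gt_one (f : X ⟶ Y) [LocallyOfFinitePresentation f] [QuasiCompact f] [QuasiSeparated f] :
    IsLocallyConstructible {y : Y | MoreMor.nGeomConnComp f y ≤ 1}ᶜ := by
  refine Cons62.isLocallyConstructible_compl ?_
  have e : {y : Y | MoreMor.nGeomConnComp f y ≤ 1} =
      {y | MoreMor.nGeomConnComp f y = 0} ∪ {y | MoreMor.nGeomConnComp f y = 1} := by
    ext y; exact ENat.le_one_iff_eq_zero_or_eq_one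
  rw [e]
  exact (NearGen2.isLocallyConstructible_nGeomConnComp_eq f 0).union (NearGen2.isLocallyConstructible_nGeomConnComp_eq f 1)

/-- The affine case, by descent to a Noetherian base. -/
theorem exists_nhd_affine {A : Type u} [CommRing A] (f : X ⟶ Spec (CommRingCat.of A)) [IsSeparated f]
    [LocallyOfFinitePresentation f] [QuasiCompact f] (g : Y' ⟶ Spec (CommRingCat.of A)) (σ : Y' ⟶ X) (hσ : σ ≫ f = g)
    [Surjective g] [LocallyOfFinitePresentation g] [QuasiCompact g] [QuasiSeparated g]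
    (hg : IsProper g ∨ Flat g) (hconn : ∀ y : Spec (CommRingCat.of A), MoreMor.nGeomConnComp f y ≤ 1)
    (y : Spec (CommRingCat.of A)) (hy : IsProper (f.fiberToSpecResidueField y)) :
    ∃ U : (Spec (CommRingCat.of A)).Opens, y ∈ U ∧ IsProper (f ∣_ U) := by
  let D := Stage62.subringSpec A
  let c := Stage62.subringCone A
  have hc : IsLimit c := Stage62.isLimitSubringCone A
  haveI : @LocallyOfFinitePresentation X c.pt f := ‹LocallyOfFinitePresentation f›
  haveI : @QuasiCompact X c.pt f := ‹QuasiCompact f›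
  haveI : @QuasiSeparated X c.pt f := (inferInstance : QuasiSeparated f)
  obtain ⟨a, Xa, fa, qX, h1, h2, h3, hX⟩ := Approx60.S0591 D c hc X f
  have hsep : IsSeparated (pullback.snd fa (c.π.app a)) :=
    (LimDesc62.prop_iff_of_isPullback (P := @IsSeparated) hX).mp (show @IsSeparated X c.pt f from ‹IsSeparated f›)
  obtain ⟨b, α, hb⟩ := LimDesc62.descProp_isSeparated.desc D c hc a fa (inferInstance : LocallyOfFiniteType fa) hsep
  let fb := pullback.snd fa (D.map α)
  haveI : IsSeparated fb := hb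
  obtain ⟨qb, -, hXb⟩ := ConsProp93.exists_isPullback_of_fac hX (IsPullback.of_hasPullback fa (D.map α))
    (c.π.app b) (c.w α)
  -- the multisection at a stage
  haveI : LocallyOfFinitePresentation σ := by
    haveI : LocallyOfFinitePresentation (σ ≫ f) := hσ ▸ ‹LocallyOfFinitePresentation g›
    exact LimTop61.locallyOfFinitePresentation_of_comp σ f
  haveI : QuasiCompact σ := by
    haveI : QuasiCompact (σ ≫ f) := hσ ▸ ‹QuasiCompact g›
    exact QuasiCompact.of_comp σ f
  haveI : QuasiSeparated σ := by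
    haveI : QuasiSeparated (σ ≫ f) := hσ ▸ ‹QuasiSeparated g›
    exact QuasiSeparated.of_comp σ f
  haveI : CompactSpace ↥(pullback fa (D.map α)) := QuasiCompact.compactSpace_of_compactSpace fb
  haveI : QuasiSeparatedSpace ↥(pullback fa (D.map α)) := quasiSeparatedSpace_of_quasiSeparated fb
  let c' := LimTop61.bcCone D c fb qb f hXb.w
  haveI : @LocallyOfFinitePresentation Y' c'.pt σ := ‹LocallyOfFinitePresentation σ›
  haveI : @QuasiCompact Y' c'.pt σ := ‹QuasiCompact σ›
  haveI : @QuasiSeparated Y' c'.pt σ := ‹QuasiSeparated σ›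
  obtain ⟨j, Yj, τ, qY, t1, t2, t3, hY⟩ := Approx60.S0591 (LimTop61.bcDiagram D fb) c'
    (LimTop61.isLimitBcCone D c hc fb qb f hXb) Y' σ
  let fj := pullback.snd fb (D.map j.hom)
  let τ' : Yj ⟶ pullback fb (D.map j.hom) := τ
  haveI : LocallyOfFinitePresentation τ' := t1
  haveI : QuasiCompact τ' := t2
  haveI : QuasiSeparated τ' := t3
  let gj := τ' ≫ fj
  obtain ⟨qj, hqj1, hXj⟩ := ConsProp93.exists_isPullback_of_fac hXb (IsPullback.of_hasPullback fb (D.map j.hom))
    (c.π.app j.left) (c.w j.hom)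
  have hqj : qj = c'.π.app j := by
    apply pullback.hom_ext
    · exact hqj1.trans (pullback.lift_fst _ _ _).symm
    · exact hXj.w.trans (pullback.lift_snd _ _ _).symm
  rw [← hqj] at hY
  have hG : IsPullback qY g gj (c.π.app j.left) := hσ ▸ hY.paste_vert hXj
  haveI : LocallyOfFinitePresentation gj := inferInstance
  haveI : QuasiCompact gj := inferInstance
  haveI : QuasiSeparated gj := inferInstance
  have hsurj : Surjective (pullback.snd gj (c.π.app j.left)) :=
    (LimDesc62.prop_iff_of_isPullback (P := @Surjective) hG).mp (show @Surjective Y' c.pt g from ‹Surjective g›)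
  obtain ⟨j₁, φ₁, hj₁⟩ := LimDesc62.descProp_surjective.desc D c hc j.left gj ‹LocallyOfFinitePresentation gj› hsurj
  obtain ⟨j₂, φ₂, hj₂⟩ : ∃ (j₂ : (Stage62.FgSubring A)ᵒᵖ) (φ₂ : j₂ ⟶ j.left),
      IsProper (pullback.snd gj (D.map φ₂)) ∨ Flat (pullback.snd gj (D.map φ₂)) := by
    rcases hg with hp | hp
    · obtain ⟨k, φ, h⟩ := Approx60.descProp_isProper.desc D c hc j.left gj (inferInstance : LocallyOfFiniteType gj)
        ((LimDesc62.prop_iff_of_isPullback (P := @IsProper) hG).mp (show @IsProper Y' c.pt g from hp))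
      exact ⟨k, φ, Or.inl h⟩
    · obtain ⟨k, φ, h⟩ := Rig93.descProp_flat.desc D c hc j.left gj ‹LocallyOfFinitePresentation gj›
        ((LimDesc62.prop_iff_of_isPullback (P := @Flat) hG).mp (show @Flat Y' c.pt g from hp))
      exact ⟨k, φ, Or.inr h⟩
  let C : Set (D.obj j.left) := {s | MoreMor.nGeomConnComp fj s ≤ 1}ᶜ
  have hC : IsLocallyConstructible C := isLocallyConstructible_gt_one fj
  obtain ⟨A₃, hle, hA₃, hC₃⟩ := NearGen2.exists_fg_stage j.left.unop.1 j.left.unop.2
    (C := C) hC.isConstructible (Set.eq_empty_iff_forall_notMem.mpr fun s hs => hs (by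
      show MoreMor.nGeomConnComp fj (c.π.app j.left s) ≤ 1
      exact (S1335.result fj f qj (c.π.app j.left) hXj s).ge.trans (hconn s)))
  let φ₃ : op (⟨A₃, hA₃⟩ : Stage62.FgSubring A) ⟶ j.left := (homOfLE (show j.left.unop ≤ ⟨A₃, hA₃⟩ from hle)).op
  obtain ⟨k₀, u₁, u₂, -⟩ := IsCofilteredOrEmpty.cone_objs j₁ j₂
  obtain ⟨m₀, v, v₃, -⟩ := IsCofilteredOrEmpty.cone_objs k₀ (op (⟨A₃, hA₃⟩ : Stage62.FgSubring A))
  obtain ⟨m, d, hd⟩ := IsCofilteredOrEmpty.cone_maps (v ≫ u₁ ≫ φ₁) (v ≫ u₂ ≫ φ₂)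
  obtain ⟨n, e, he⟩ := IsCofilteredOrEmpty.cone_maps (d ≫ v ≫ u₁ ≫ φ₁) (d ≫ v₃ ≫ φ₃)
  let ψ : n ⟶ j.left := e ≫ d ≫ v ≫ u₁ ≫ φ₁
  let fn := pullback.snd fj (D.map ψ)
  let gn := pullback.snd gj (D.map ψ)
  let σn : pullback gj (D.map ψ) ⟶ pullback fj (D.map ψ) := pullback.lift (pullback.fst gj (D.map ψ) ≫ τ')
    (pullback.snd gj (D.map ψ)) (by rw [Category.assoc]; exact pullback.condition)
  have hσn : σn ≫ fn = gn := pullback.lift_snd _ _ _
  haveI : Surjective gn := by
    show Surjective (pullback.snd gj (D.map ψ))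
    rw [show ψ = (e ≫ d ≫ v ≫ u₁) ≫ φ₁ by simp only [ψ, Category.assoc], D.map_comp]
    exact snd_comp_stage @Surjective gj _ _ hj₁
  have hgn : IsProper gn ∨ Flat gn := by
    show IsProper (pullback.snd gj (D.map ψ)) ∨ Flat (pullback.snd gj (D.map ψ))
    rw [show ψ = (e ≫ d ≫ v ≫ u₂) ≫ φ₂ by simp only [ψ, Category.assoc, hd], D.map_comp]
    exact hj₂.imp (snd_comp_stage @IsProper gj _ _) (snd_comp_stage @Flat gj _ _)
  have hconn' : ∀ s, MoreMor.nGeomConnComp fn s ≤ 1 := fun s => by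
    rw [S1335.result fj fn (pullback.fst fj (D.map ψ)) (D.map ψ) (IsPullback.of_hasPullback fj (D.map ψ)) s]
    by_contra hn
    refine Set.eq_empty_iff_forall_notMem.mp hC₃ (D.map (e ≫ d ≫ v₃) s) ?_
    show D.map φ₃ (D.map (e ≫ d ≫ v₃) s) ∈ C
    rw [← Scheme.Hom.comp_apply, ← D.map_comp,
      show (e ≫ d ≫ v₃) ≫ φ₃ = ψ by simp only [ψ, Category.assoc, he]]
    exact hn
  haveI : IsLocallyNoetherian (D.obj n) := by
    haveI : IsNoetherianRing ↥n.unop.1 :=
      haveI : Algebra.FiniteType ℤ ↥n.unop.1 := n.unop.1.fg_iff_finiteType.mp n.unop.2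
      Algebra.FiniteType.isNoetherianRing ℤ _
    show IsLocallyNoetherian (Spec (CommRingCat.of ↥n.unop.1))
    infer_instance
  haveI : IsSeparated fn := inferInstance
  obtain ⟨qn, -, hXn⟩ := ConsProp93.exists_isPullback_of_fac hXj (IsPullback.of_hasPullback fj (D.map ψ))
    (c.π.app n) (c.w ψ)
  obtain ⟨U, hyU, hU⟩ := exists_nhd_noetherian fn gn σn hσn hgn hconn' (c.π.app n y)
    ((proper_fibre_baseChange_iff hXn y).1 hy)
  let π : Spec (CommRingCat.of A) ⟶ D.obj n := c.π.app n
  have hπ : IsPullback qn f fn π := hXn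
  refine ⟨π ⁻¹ᵁ U, hyU, ?_⟩
  have hle : f ⁻¹ᵁ (π ⁻¹ᵁ U) ≤ qn ⁻¹ᵁ (fn ⁻¹ᵁ U) := by
    rw [← Scheme.Hom.comp_preimage, ← Scheme.Hom.comp_preimage, hπ.w]
  have sq : IsPullback (Scheme.Hom.resLE qn (fn ⁻¹ᵁ U) (f ⁻¹ᵁ (π ⁻¹ᵁ U)) hle)
      (f ∣_ (π ⁻¹ᵁ U)) (fn ∣_ U) (π ∣_ U) := by
    refine IsPullback.of_right (h₁₂ := (fn ⁻¹ᵁ U).ι) (v₁₃ := fn) (h₂₂ := U.ι) ?_ ?_ (isPullback_morphismRestrict fn U).flip
    · rw [Scheme.Hom.resLE_comp_ι, morphismRestrict_ι]
      exact (isPullback_morphismRestrict f (π ⁻¹ᵁ U)).flip.paste_horiz hπ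
    · rw [← cancel_mono U.ι]
      simp only [Category.assoc, morphismRestrict_ι, morphismRestrict_ι_assoc, Scheme.Hom.resLE_comp_ι_assoc]
      exact congrArg _ hπ.w
  exact MorphismProperty.of_isPullback sq hU

/-- EGA IV 15.7.11. -/
theorem exists_properLocus (f : X ⟶ Y) [IsSeparated f] [LocallyOfFinitePresentation f] [QuasiCompact f]
    (g : Y' ⟶ Y) [Surjective g] [LocallyOfFinitePresentation g] [QuasiCompact g] [QuasiSeparated g]
    (hg : IsProper g ∨ Flat g) (σ : Y' ⟶ X) (hσ : σ ≫ f = g) (hconn : ∀ y : Y, MoreMor.nGeomConnComp f y ≤ 1) :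
    ∃ U : Y.Opens, (U : Set Y) = {y : Y | IsProper (f.fiberToSpecResidueField y)} ∧ IsProper (f ∣_ U) := by
  have key : ∀ y : {y : Y // IsProper (f.fiberToSpecResidueField y)}, ∃ W : Y.Opens, y.1 ∈ W ∧ IsProper (f ∣_ W) := by
    rintro ⟨y, hy⟩
    obtain ⟨V, hV, hyV, -⟩ := exists_isAffineOpen_mem_and_subset (X := Y) (x := y) (U := ⊤) trivial
    haveI := hV.isOpenImmersion_fromSpec
    obtain ⟨p, rfl⟩ : y ∈ Set.range hV.fromSpec := by rw [hV.range_fromSpec]; exact hyV
    let b := hV.fromSpec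
    let f' := pullback.snd f b
    let σ' : pullback g b ⟶ pullback f b := pullback.lift (pullback.fst g b ≫ σ) (pullback.snd g b)
      (by rw [Category.assoc, hσ]; exact pullback.condition)
    obtain ⟨U, hpU, hU⟩ := exists_nhd_affine (A := Γ(Y, V)) f' (pullback.snd g b) σ' (pullback.lift_snd _ _ _)
      (hg.imp (fun h => MorphismProperty.pullback_snd _ _ h) (fun h => MorphismProperty.pullback_snd _ _ h))
      (fun s => by rw [S1335.result f f' (pullback.fst f b) b (IsPullback.of_hasPullback f b) s]; exact hconn _)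
      p ((proper_fibre_baseChange_iff (IsPullback.of_hasPullback f b) p).2 hy)
    refine ⟨(U.ι ≫ b).opensRange, ⟨⟨p, hpU⟩, rfl⟩, ?_⟩
    refine (MorphismProperty.arrow_mk_iso_iff @IsProper (morphismRestrictOpensRange f (U.ι ≫ b))).mpr ?_
    have sq : IsPullback ((f' ⁻¹ᵁ U).ι ≫ pullback.fst f b) (f' ∣_ U) f (U.ι ≫ b) :=
      (isPullback_morphismRestrict f' U).flip.paste_horiz (IsPullback.of_hasPullback f b)
    exact (LimDesc62.prop_iff_of_isPullback (P := @IsProper) sq).mp hU
  choose W hyW hW using key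
  refine ⟨⨆ y, W y, ?_, ?_⟩
  · ext y
    simp only [TopologicalSpace.Opens.coe_iSup, Set.mem_iUnion, SetLike.mem_coe, Set.mem_setOf_eq]
    exact ⟨fun ⟨i, hi⟩ => proper_fibre_of_restrict f (hW i) hi, fun h => ⟨⟨y, h⟩, hyW ⟨y, h⟩⟩⟩
  · refine (IsZariskiLocalAtTarget.iff_of_iSup_eq_top (P := @IsProper)
      (fun y => (⨆ y, W y).ι ⁻¹ᵁ W y) ?_).mpr fun y => ?_
    · rw [← Scheme.Hom.preimage_iSup, Scheme.Opens.ι_preimage_self]
    · refine (MorphismProperty.arrow_mk_iso_iff @IsProper (morphismRestrictRestrict f _ _)).mpr ?_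
      rw [Scheme.Hom.image_preimage_eq_opensRange_inf, Scheme.Opens.opensRange_ι, inf_eq_right.mpr (le_iSup W y)]
      exact hW y

end Groth.Agent.Prop62
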