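import Groth.Agent.E4O.ProperAtDvr
import Groth.Agent.FBase64.ProperNhd.Spread
import Groth.Agent.FBase64.ProperNhd.Dvr
import Groth.Agent.NearGen2.CompLocus
import Groth.Agent.S1335
import Groth.Agent.SchBasics.Reduced
import Groth.Agent.Count62.ConstCount
import Mathlib.RingTheory.Flat.TorsionFree

/-! Universally submersive morphisms with geometrically connected fibres are proper near a proper
fibre (EGA IV 15.7.8). -/

set_option autoImplicit false
set_option linter.style.haveILetI false
universe u

open CategoryTheory CategoryTheory.Limits AlgebraicGeometry IsLocalRing TopologicalSpace Topology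

namespace Groth.Agent.Prop62

/-- A reduced scheme over a discrete valuation ring, all points of which generize to the generic fibre,
is flat. -/
theorem flat_of_reduced_of_dominant {A : Type u} [CommRing A] [IsDomain A] [IsDiscreteValuationRing A]
    {W : Scheme.{u}} [IsReduced W] (q : W ⟶ Spec (CommRingCat.of A))
    (h : ∀ w : W, ∃ w', w' ⤳ w ∧ q w' = genericPoint (Spec (CommRingCat.of A))) : Flat q := by
  suffices key : ∀ (R : CommRingCat.{u}) (j : Spec R ⟶ W) [IsOpenImmersion j], Flat (j ≫ q) from
    IsZariskiLocalAtSource.of_openCover (P := @Flat) W.affineCover fun i => @key _ (W.affineCover.f i) (W.affineCover.map_prop i)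
  intro R j _
  obtain ⟨φ, hφ⟩ := Spec.map_surjective (j ≫ q)
  rw [← hφ, HasRingHomProperty.Spec_iff (P := @Flat)]
  have : IsReduced (Spec R) := isReduced_of_isOpenImmersion j
  have hR : _root_.IsReduced R :=
    isReduced_of_injective (Scheme.ΓSpecIso R).commRingCatIsoToRingEquiv.symm
      (Scheme.ΓSpecIso R).commRingCatIsoToRingEquiv.symm.injective
  have hmin : ∀ P : Ideal R, P ∈ minimalPrimes R → P.comap φ.hom = ⊥ := fun P hP => by
    let Pp : ↥(Spec R) := ⟨P, hP.1.1⟩
    obtain ⟨w', hw', hq⟩ := h (j Pp)
    obtain ⟨Q, rfl⟩ := hw'.mem_open j.isOpenEmbedding.isOpen_range ⟨Pp, rfl⟩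
    have hle : Q.asIdeal ≤ P :=
      (PrimeSpectrum.le_iff_specializes Q Pp).2 (j.isOpenEmbedding.isInducing.specializes_iff.1 hw')
    have hQ : Q = Pp := PrimeSpectrum.ext (hle.antisymm (hP.2 ⟨Q.isPrime, bot_le⟩ hle))
    subst hQ
    rw [← Scheme.Hom.comp_apply, ← hφ, genericPoint_eq_bot_of_affine] at hq
    exact congrArg PrimeSpectrum.asIdeal hq
  algebraize [φ.hom]
  have : Module.IsTorsionFree A R := by
    refine Module.isTorsionFree_iff_smul_eq_zero.2 fun a b hab => ?_
    by_cases ha : a = 0
    · exact Or.inl ha
    refine Or.inr (IsNilpotent.eq_zero (mem_nilradical.1 ?_))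
    rw [nilradical, ← Ideal.sInf_minimalPrimes, Ideal.mem_sInf]
    intro P hP
    refine (hP.1.1.mem_or_mem (show φ.hom a * b ∈ P from ?_)).resolve_left fun hmem => ?_
    · rw [show φ.hom a * b = 0 from (Algebra.smul_def a b).symm.trans hab]
      exact zero_mem _
    · have : a ∈ P.comap φ.hom := hmem
      rw [hmin P hP, Ideal.mem_bot] at this
      exact ha this
  exact (inferInstance : Module.Flat A R)

theorem geometricallyConnected_of_surjective_closedImmersion {k : Type u} [Field k] {F F₁ : Scheme.{u}}
    (m : F₁ ⟶ F) [IsClosedImmersion m] [Surjective m] (t : F ⟶ Spec (CommRingCat.of k))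
    [GeometricallyConnected t] : GeometricallyConnected (m ≫ t) := by
  refine ⟨geometrically_iff_of_commRing_of_isClosedUnderIsomorphisms.mpr fun K _ _ => ?_⟩
  let y := Spec.map (CommRingCat.ofHom (algebraMap k K))
  have e := (IsPullback.of_hasPullback m (pullback.fst t y)).paste_vert (IsPullback.of_hasPullback t y)
  have : ConnectedSpace ↥(pullback t y) :=
    pullback_of_geometrically GeometricallyConnected.geometrically_connectedSpace _ _
  let n : pullback m (pullback.fst t y) ⟶ pullback t y := pullback.snd m (pullback.fst t y)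
  have : Surjective n := MorphismProperty.pullback_snd _ _ ‹Surjective m›
  have : IsClosedImmersion n := MorphismProperty.pullback_snd _ _ ‹IsClosedImmersion m›
  let h := n.isClosedEmbedding.isEmbedding.toHomeomorphOfSurjective n.surjective
  have : ConnectedSpace ↥(pullback m (pullback.fst t y)) := h.connectedSpace_iff.2 inferInstance
  exact e.isoPullback.hom.homeomorph.connectedSpace_iff.1 inferInstance

theorem fibre_one {X Y : Scheme.{u}} (f : X ⟶ Y) (y : Y) (h1 : MoreMor.nGeomConnComp f y ≤ 1)
    (x : X) (hx : f x = y) : GeometricallyConnected (f.fiberToSpecResidueField y) := by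
  rw [NearGen2.geometricallyConnected_fiber_iff]
  refine le_antisymm h1 (Order.one_le_iff_pos.2 (pos_iff_ne_zero.2 fun h0 => ?_))
  rw [MoreMor.nGeomConnComp, ENat.card_eq_zero_iff_empty] at h0
  obtain ⟨z, rfl⟩ := E4O.exists_fiberι_eq f hx
  let σ := Spec.map (CommRingCat.ofHom
    (algebraMap (Y.residueField y) (SeparableClosure (Y.residueField y))))
  obtain ⟨w, -⟩ := (pullback.fst (f.fiberToSpecResidueField y) σ).surjective z
  exact h0.false (_root_.ConnectedComponents.mk (show ↥(MoreMor.geomFiber f y) from w))

/-- The lifting condition at a point with proper fibre. -/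
theorem exists_lift_of_connected {X Y : Scheme.{u}} (f : X ⟶ Y) [IsSeparated f]
    [LocallyOfFiniteType f] [QuasiCompact f]
    (hsub : MorphismProperty.universally (topologically fun g => Topology.IsQuotientMap g) f)
    (hconn : ∀ y : Y, MoreMor.nGeomConnComp f y ≤ 1) (y : Y)
    (hy : IsProper (f.fiberToSpecResidueField y))
    (L : Type u) [Field L] (A : ValuationSubring L) [IsDiscreteValuationRing A]
    (g : Spec (CommRingCat.of A) ⟶ Y) (k : Spec (CommRingCat.of L) ⟶ X)
    (hg : g (closedPoint A) = y)
    (hkg : k ≫ f = Spec.map (CommRingCat.ofHom (algebraMap A L)) ≫ g) :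
    ∃ l : Spec (CommRingCat.of A) ⟶ X, l ≫ f = g ∧
      Spec.map (CommRingCat.ofHom (algebraMap A L)) ≫ l = k := by
  let a := Spec.map (CommRingCat.ofHom (algebraMap A L))
  let q := pullback.snd f g
  let pη : ↥(Spec (CommRingCat.of A)) := genericPoint (Spec (CommRingCat.of A))
  let c : ↥(Spec (CommRingCat.of A)) := closedPoint A
  have : IsNoetherianRing (CommRingCat.of A) := inferInstanceAs (IsNoetherianRing A)
  have : LocallyOfFiniteType q := MorphismProperty.pullback_snd _ _ ‹LocallyOfFiniteType f›
  have : IsLocallyNoetherian (pullback f g) := LocallyOfFiniteType.isLocallyNoetherian q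
  let G : Set ↥(pullback f g) := q ⁻¹' {pη}
  have hG : IsOpen G := by
    have e : G = q ⁻¹' ({c}ᶜ) := by
      ext w
      exact ⟨fun hw h => Count62.generic_ne_closed (hw.symm.trans h),
        fun hw => (Count62.eq_closedPoint_or (q w)).resolve_left hw⟩
    rw [e]
    exact (IsLocalRing.isClosed_singleton_closedPoint A).isOpen_compl.preimage q.continuous
  let C : Closeds ↥(pullback f g) := ⟨closure G, isClosed_closure⟩
  let i := (Scheme.IdealSheafData.vanishingIdeal C).subschemeι
  have hi : Set.range i = closure G := SchBasics.range_vanishingIdeal_subschemeι _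
  have : IsReduced (Scheme.IdealSheafData.vanishingIdeal C).subscheme :=
    SchBasics.isReduced_vanishingIdeal_subscheme _
  let q₁ := i ≫ q
  have : Flat q₁ := by
    refine flat_of_reduced_of_dominant q₁ fun w => ?_
    obtain ⟨v, hv, hvw⟩ := E4O.exists_specializes_of_mem_closure_isLocallyConstructible
      (E4O.isLocallyConstructible_of_isOpen' hG) (hi.le ⟨w, rfl⟩)
    obtain ⟨v', rfl⟩ := hi.ge (subset_closure hv)
    exact ⟨v', i.isClosedEmbedding.isInducing.specializes_iff.1 hvw, (Scheme.Hom.comp_apply i q v').trans hv⟩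
  -- the generic point and the closure meets the special fibre
  let σ : Spec (CommRingCat.of L) ⟶ pullback f g := pullback.lift k a hkg
  have hσ : q (σ (closedPoint L)) = pη := by
    rw [← Scheme.Hom.comp_apply, pullback.lift_snd]
    exact E4O.genericPoint_eq_map_fractionRing _
  have h0 : ∃ w, q₁ w = c := by
    by_contra hno
    have hcl : IsClosed G := by
      refine closure_eq_iff_isClosed.1 (subset_closure.antisymm' fun w hw => ?_)
      obtain ⟨v, rfl⟩ := hi.ge hw
      exact (Count62.eq_closedPoint_or (q (i v))).resolve_left fun h =>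
        hno ⟨v, (Scheme.Hom.comp_apply i q v).trans h⟩
    have hq : Topology.IsQuotientMap q := hsub _ _ _ (IsPullback.of_hasPullback f g).flip
    have hc : IsClosed ({pη} : Set ↥(Spec (CommRingCat.of A))) := hq.isClosed_preimage.1 hcl
    exact Count62.generic_ne_closed ((genericPoint_specializes c).mem_closed hc rfl).symm
  -- the closed fibre
  have : IsSeparated q₁ := inferInstance
  have : LocallyOfFiniteType q₁ := inferInstance
  have : QuasiCompact q₁ := inferInstance
  let cl := FBase64.ProperNhd.clPt (A := A) (maximalIdeal A)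
  have hprop : IsProper (pullback.snd q₁ cl) := by
    letI : Field (A ⧸ maximalIdeal A) := Ideal.Quotient.field _
    have hp : IsProper (pullback.snd f (cl ≫ g)) := by
      refine FBase64.ProperNhd.isProper_snd_of_fibre f (A ⧸ maximalIdeal A) (cl ≫ g) y ?_ hy
      rw [Scheme.Hom.comp_apply, show cl (closedPoint (A ⧸ maximalIdeal A)) = c from
        (FBase64.ProperNhd.range_clPt (A := A)).le ⟨closedPoint (A ⧸ maximalIdeal A), rfl⟩]
      exact hg
    have e' := (IsPullback.of_hasPullback q cl).paste_horiz (IsPullback.of_hasPullback f g)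
    have : IsProper (pullback.snd q cl) := by
      rw [← e'.isoPullback_hom_snd]; infer_instance
    have e := (IsPullback.of_hasPullback i (pullback.fst q cl)).paste_vert (IsPullback.of_hasPullback q cl)
    rw [← e.isoPullback_inv_snd]
    infer_instance
  have hgen : ∀ η : ↥(Spec (CommRingCat.of A)), (∀ η', η' ⤳ η → η' = η) → Nonempty ↥(q₁.fiber η) →
      GeometricallyConnected (q₁.fiberToSpecResidueField η) := by
    intro η hη _
    obtain rfl : pη = η := hη _ (genericPoint_specializes η)
    let r := (Spec (CommRingCat.of A)).fromSpecResidueField pη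
    let t : q.fiber pη ⟶ Spec (CommRingCat.of (IsLocalRing.ResidueField
      ((Spec (CommRingCat.of A)).presheaf.stalk pη))) := q.fiberToSpecResidueField pη
    have hct : GeometricallyConnected t :=
      fibre_one q pη (by rw [S1335.result f q (pullback.fst f g) g (IsPullback.of_hasPullback f g)]; exact hconn _)
        (σ (closedPoint L)) hσ
    let m := pullback.snd i (pullback.fst q r)
    have : Surjective m := ⟨fun z => by
      have hz : pullback.fst q r z ∈ G := E4O.apply_fiberι q pη z
      obtain ⟨v, hv⟩ := hi.ge (subset_closure hz)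
      obtain ⟨u, -, hu⟩ := Scheme.Pullback.exists_preimage_pullback v z hv
      exact ⟨u, hu⟩⟩
    have : IsClosedImmersion m := MorphismProperty.pullback_snd _ _ inferInstance
    have hc := @geometricallyConnected_of_surjective_closedImmersion _ _ _ _ m ‹_› ‹_› t hct
    have e := (IsPullback.of_hasPullback i (pullback.fst q r)).paste_vert (IsPullback.of_hasPullback q r)
    show GeometricallyConnected (pullback.snd q₁ r)
    rw [← e.isoPullback_inv_snd]
    exact (MorphismProperty.cancel_left_of_respectsIso @GeometricallyConnected e.isoPullback.inv _).mpr hc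
  have hP : IsProper q₁ := FBase64.ProperNhd.isProper_of_closedFibre_local q₁ h0 hprop hgen
  obtain ⟨σ₁, hσ₁⟩ := E4O.ProperAt.exists_lift_reduced i σ (by
    rintro _ ⟨z, rfl⟩
    rw [hi, show z = closedPoint L from Subsingleton.elim (α := PrimeSpectrum L) _ _]
    exact subset_closure hσ)
  have hex : ValuativeCriterion.Existence q₁ := by
    have h : UniversallyClosed q₁ := inferInstance
    rw [UniversallyClosed.eq_valuativeCriterion] at h
    exact h.1
  obtain ⟨⟨⟨s, hs1, hs2⟩⟩⟩ := hex
    { R := A, K := L, i₁ := σ₁, i₂ := 𝟙 _, commSq := ⟨by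
        rw [Category.comp_id, ← Category.assoc, hσ₁]
        exact pullback.lift_snd _ _ _⟩ }
  let s₀ : Spec (CommRingCat.of A) ⟶ (Scheme.IdealSheafData.vanishingIdeal C).subscheme := s
  have hs1' : a ≫ s₀ = σ₁ := hs1
  have hs2' : s₀ ≫ i ≫ q = 𝟙 _ := hs2
  refine ⟨s₀ ≫ i ≫ pullback.fst f g, ?_, ?_⟩
  · rw [Category.assoc, Category.assoc, pullback.condition]
    exact ((Category.assoc _ _ _).trans (congrArg (s₀ ≫ ·) (Category.assoc _ _ _))).symm.trans
      ((congrArg (· ≫ g) hs2').trans (Category.id_comp g))
  · rw [reassoc_of% hs1', reassoc_of% hσ₁]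
    exact pullback.lift_fst _ _ _

theorem exists_nhd_of_submersive {X Y : Scheme.{u}} [IsLocallyNoetherian Y] (f : X ⟶ Y) [IsSeparated f]
    [LocallyOfFiniteType f] [QuasiCompact f]
    (hsub : MorphismProperty.universally (topologically fun g => Topology.IsQuotientMap g) f)
    (hconn : ∀ y : Y, MoreMor.nGeomConnComp f y ≤ 1) (y : Y)
    (hy : IsProper (f.fiberToSpecResidueField y)) : ∃ U : Y.Opens, y ∈ U ∧ IsProper (f ∣_ U) :=
  E4O.ProperAt.exists_nhd f y fun _ _ L _ A hA g k hg _ hkg =>
    haveI := hA
    exists_lift_of_connected f hsub hconn y hy L A g k hg hkg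

end Groth.Agent.Prop62
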